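import Mathlib

/-! Colimits of sets over almost filtered index categories. -/

set_option autoImplicit false

open CategoryTheory CategoryTheory.Limits

namespace AlmostFilt

universe v

variable {I : Type v} [SmallCategory I]

theorem eq_iff (h1 : ∀ ⦃w x y : I⦄ (a : w ⟶ x) (b : w ⟶ y), ∃ (z : I) (c : x ⟶ z) (d : y ⟶ z), a ≫ c = b ≫ d)
    {M : I ⥤ Type v} {i j : I} {x : M.obj i} {y : M.obj j}
    (h : colimit.ι M i x = colimit.ι M j y) :
    ∃ (z : I) (c : i ⟶ z) (d : j ⟶ z), M.map c x = M.map d y := by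
  suffices key : ∀ p q : Σ k, M.obj k, Relation.EqvGen M.ColimitTypeRel p q →
      ∃ (z : I) (c : p.1 ⟶ z) (d : q.1 ⟶ z), M.map c p.2 = M.map d q.2 from
    key ⟨i, x⟩ ⟨j, y⟩ (Types.colimit_eq h)
  intro p q hpq
  induction hpq with
  | rel p q h =>
    obtain ⟨f, hf⟩ := h
    exact ⟨q.1, f, 𝟙 _, by simp [hf]⟩
  | refl p => exact ⟨p.1, 𝟙 _, 𝟙 _, rfl⟩
  | symm p q _ ih => obtain ⟨z, c, d, e⟩ := ih; exact ⟨z, d, c, e.symm⟩
  | trans p q r _ _ ih1 ih2 =>
    obtain ⟨z, c, d, e⟩ := ih1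
    obtain ⟨z', c', d', e'⟩ := ih2
    obtain ⟨w, u, u', hu⟩ := h1 d c'
    exact ⟨w, c ≫ u, d' ≫ u', by
      rw [Functor.map_comp, ConcreteCategory.comp_apply, e, ← ConcreteCategory.comp_apply,
        ← Functor.map_comp, hu]; simp [e']⟩

theorem colimMap_injective
    (hI : ∀ ⦃x y z : I⦄ (f : x ⟶ y) (g : x ⟶ z), ∃ (w : I) (f' : y ⟶ w) (g' : z ⟶ w), f ≫ f' = g ≫ g')
    {M N : I ⥤ Type v} (φ : M ⟶ N) (hφ : ∀ i, Function.Injective (φ.app i)) :
    Function.Injective (colimMap φ) := by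
  intro a b h
  obtain ⟨i, x, rfl⟩ := Types.jointly_surjective' a
  obtain ⟨j, y, rfl⟩ := Types.jointly_surjective' b
  rw [← ConcreteCategory.comp_apply, ← ConcreteCategory.comp_apply, ι_colimMap, ι_colimMap,
    ConcreteCategory.comp_apply, ConcreteCategory.comp_apply] at h
  obtain ⟨z, c, d, e⟩ := eq_iff hI h
  rw [← NatTrans.naturality_apply, ← NatTrans.naturality_apply] at e
  rw [← colimit.w_apply M c x, ← colimit.w_apply M d y, hφ z e]

theorem prodComparison_surjective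
    (hI : ∀ x y : I, ∃ (z : I) (_ : x ⟶ z) (_ : y ⟶ z), True) (M N : I ⥤ Type v) :
    Function.Surjective (prodComparison (colim : (I ⥤ Type v) ⥤ Type v) M N) := by
  intro p
  let F := colim (J := I) (C := Type v)
  obtain ⟨i, x, hx⟩ := Types.jointly_surjective' ((Limits.prod.fst : F.obj M ⨯ F.obj N ⟶ _) p)
  obtain ⟨j, y, hy⟩ := Types.jointly_surjective' ((Limits.prod.snd : F.obj M ⨯ F.obj N ⟶ _) p)
  obtain ⟨z, c, d, -⟩ := hI i j
  let ev := (evaluation I (Type v)).obj z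
  let e := PreservesLimitPair.iso ev M N
  obtain ⟨w, hw1, hw2⟩ : ∃ w : (M ⨯ N).obj z,
      (Limits.prod.fst : M ⨯ N ⟶ M).app z w = M.map c x ∧ (Limits.prod.snd : M ⨯ N ⟶ N).app z w = N.map d y := by
    obtain ⟨q, hq1, hq2⟩ : ∃ q : ev.obj M ⨯ ev.obj N,
        (Limits.prod.fst : ev.obj M ⨯ ev.obj N ⟶ _) q = M.map c x ∧
        (Limits.prod.snd : ev.obj M ⨯ ev.obj N ⟶ _) q = N.map d y :=
      ⟨(Types.binaryProductIso _ _).inv (M.map c x, N.map d y), by simp, by simp⟩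
    refine ⟨e.inv q, ?_, ?_⟩
    · show (e.inv ≫ ev.map Limits.prod.fst) q = _
      rw [PreservesLimitPair.iso_inv_fst]; exact hq1
    · show (e.inv ≫ ev.map Limits.prod.snd) q = _
      rw [PreservesLimitPair.iso_inv_snd]; exact hq2
  refine ⟨colimit.ι (M ⨯ N) z w, ?_⟩
  refine Concrete.isLimit_ext _ (prodIsProd (F.obj M) (F.obj N)) _ _ ?_
  rintro ⟨_ | _⟩
  · show (prodComparison F M N ≫ Limits.prod.fst) _ = _
    rw [prodComparison_fst]
    show (colimit.ι (M ⨯ N) z ≫ colimMap (Limits.prod.fst : M ⨯ N ⟶ M)) w = _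
    rw [ι_colimMap, ConcreteCategory.comp_apply, hw1, colimit.w_apply, hx]
    rfl
  · show (prodComparison F M N ≫ Limits.prod.snd) _ = _
    rw [prodComparison_snd]
    show (colimit.ι (M ⨯ N) z ≫ colimMap (Limits.prod.snd : M ⨯ N ⟶ N)) w = _
    rw [ι_colimMap, ConcreteCategory.comp_apply, hw2, colimit.w_apply, hy]
    rfl

end AlmostFilt
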